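import Groth.Agent.JacBC.ThetaParam
import Groth.Agent.AlbCurve.ThetaCartier
import Groth.Agent.AlbCurve.ThetaSeesaw
import Groth.Agent.GrpSchLib.SmoothReduced
import Groth.Agent.Triage.SchDense
import Groth.Agent.S4667
import Groth.Agent.S8914

/-!
# Base change of the theta line bundle
-/

set_option autoImplicit false
set_option maxHeartbeats 1600000
set_option linter.style.haveILetI false
set_option linter.unusedSectionVars false
set_option backward.isDefEq.respectTransparency false
set_option backward.isDefEq.respectTransparency.types false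

universe u

open CategoryTheory CategoryTheory.Limits AlgebraicGeometry TopologicalSpace Opposite MonoidalCategory
  CartesianMonoidalCategory MonObj

noncomputable section

namespace Groth.Agent.JacBC

open Groth.Agent Groth.Agent.PicRep Groth.Agent.AlbCurve
open scoped Groth.Agent.H23.PicMul

attribute [local instance] Jacobian.curveOver GenusOneX.fibreOver GenusOneX.flat_of_family GenusOneX.lfp_of_family
attribute [local instance] overCK

/-- The scheme theoretic image of a reduced scheme is reduced. -/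
theorem ker_eq_vanishingIdeal {X Y : Scheme.{u}} (f : X ⟶ Y) [IsReduced X] [QuasiCompact f] :
    f.ker = Scheme.IdealSheafData.vanishingIdeal ⟨closure (Set.range f), isClosed_closure⟩ := by
  refine le_antisymm (Scheme.IdealSheafData.le_support_iff_le_vanishingIdeal.1 ?_)
    (Triage.SchDense.vanishingIdeal_le_ker f)
  show closure (Set.range f) ⊆ (f.ker.support : Set Y)
  rw [Scheme.Hom.support_ker]

variable (k K : Type u) [Field k] [Field K] [Algebra k K] [IsAlgClosed K] {C : Scheme.{u}}
  [C.Over (Spec (CommRingCat.of k))]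
  [IsProper (C ↘ Spec (CommRingCat.of k))] [SmoothOfRelativeDimension 1 (C ↘ Spec (CommRingCat.of k))]
  [GeometricallyConnected (C ↘ Spec (CommRingCat.of k))] [IsIntegral C]
  {σ : Spec (CommRingCat.of k) ⟶ C} {hσ : σ ≫ C ↘ Spec (CommRingCat.of k) = 𝟙 _}
  {J : Over (Spec (CommRingCat.of k))} [GrpObj J] [IsCommMonObj J] [IsProper J.hom]
  {ψ : (ModFun.PicDeg (C ↘ Spec (CommRingCat.of k)) 0).Hom ⊤ J}
  {j : Over.mk (C ↘ Spec (CommRingCat.of k)) ⟶ J}
  (hj : Jac.IsAbelJacobiAt (C ↘ Spec (CommRingCat.of k)) σ ψ j)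
  (r : (funct0 (C ↘ Spec (CommRingCat.of k)) σ hσ).RepresentableBy J)
  (hψ : ∀ (T : Over (Spec (CommRingCat.of k))) (E : (PicF.XT (C ↘ Spec (CommRingCat.of k)) T).Modules)
    (hT : (⊤ : ObjectProperty (Over (Spec (CommRingCat.of k)))) T)
    (h : (ModFun.PicDeg (C ↘ Spec (CommRingCat.of k)) 0).ok T E), ψ.app T E hT h = phi0 r T (PicF.cl E))
  (hmul : ∀ (T : Over (Spec (CommRingCat.of k))) (a b : T ⟶ J),
    val0 (r.homEquiv (a * b)) = val0 (r.homEquiv a) * val0 (r.homEquiv b))

include hj hψ hmul in
/-- **The theta line bundle of the base change is the pullback of the theta line bundle.** -/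
theorem isThetaLB_bc (hdim : topologicalKrullDim C = 1) {n : ℕ} (hn : Curv2.genus k C = n + 1) {N : C.Modules}
    (hN : PicF.IsInvertible N) (hNdeg : Curv2.deg k C N 1 = n) {Θ : J.left.Modules}
    (hΘ : Jac.IsThetaLB (C ↘ Spec (CommRingCat.of k)) 0 ψ N Θ) :
    Jac.IsThetaLB (CK k K C ↘ Spec (CommRingCat.of K)) 0 (psiK k K r)
      ((Scheme.Modules.pullback (prC k K)).obj N)
      ((Scheme.Modules.pullback (pullback.fst J.hom (spq k K))).obj Θ) := by
  obtain ⟨hΘi, hΘI⟩ := hΘ
  obtain ⟨W, m, hWp, hWs, hrange⟩ := exists_param k hj r hψ hmul hdim hN hNdeg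
  haveI := hWp; haveI := hWs
  haveI : IsProper m.left := by
    haveI : IsProper (m.left ≫ J.hom) := by rw [Over.w m]; infer_instance
    exact IsProper.of_comp m.left J.hom
  let q := spq k K
  let p : (Red.bc q J).left ⟶ J.left := pullback.fst J.hom q
  haveI : Flat q := GrpSchLib.flat_spec_map_field _
  haveI : Flat p := MorphismProperty.pullback_fst (P := @Flat) J.hom q inferInstance
  haveI : IsReduced W.left := GrpSchLib.isReduced_of_smooth_field W.hom
  haveI : IsReduced (pullback m.left p) := by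
    have hb : IsPullback (pullback.fst m.left p) (pullback.snd m.left p ≫ pullback.snd J.hom q) W.hom q := by
      have h := (IsPullback.of_hasPullback m.left p).paste_vert (IsPullback.of_hasPullback J.hom q)
      rwa [Over.w m] at h
    haveI : Smooth (pullback.snd m.left p ≫ pullback.snd J.hom q) :=
      MorphismProperty.of_isPullback (P := @Smooth) hb inferInstance
    exact GrpSchLib.isReduced_of_smooth_field (pullback.snd m.left p ≫ pullback.snd J.hom q)
  set f' := CK k K C ↘ Spec (CommRingCat.of K)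
  set NK := (Scheme.Modules.pullback (prC k K (C := C))).obj N
  let IK := Scheme.IdealSheafData.vanishingIdeal ⟨Jac.thetaLocus f' 0 (psiK k K r) NK, isClosed_closure⟩
  let I := Scheme.IdealSheafData.vanishingIdeal ⟨Jac.thetaLocus (C ↘ Spec (CommRingCat.of k)) 0 ψ N, isClosed_closure⟩
  have hI : I = m.left.ker := by
    rw [ker_eq_vanishingIdeal]
    refine congrArg Scheme.IdealSheafData.vanishingIdeal (Closeds.ext ?_)
    show Jac.thetaLocus _ 0 ψ N = closure (Set.range m.left.base)
    rw [← hrange]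
    exact isClosed_closure.closure_eq.symm
  have hIK : IK = I.comap p := by
    rw [hI, ← S4667.result m.left p, ker_eq_vanishingIdeal]
    refine congrArg Scheme.IdealSheafData.vanishingIdeal (Closeds.ext ?_)
    show Jac.thetaLocus f' 0 (psiK k K r) NK = closure (Set.range (pullback.snd m.left p).base)
    rw [thetaLocus_bc k K r hψ hN, Scheme.Pullback.range_snd]
    refine Eq.trans ?_ ((IsClosed.preimage p.continuous ?_).closure_eq).symm
    · exact congrArg _ hrange
    · exact m.left.isClosedMap.isClosed_range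
  have hdK := dim_CK k K hdim (C := C)
  haveI : IsIntegral (CK k K C) := CurveStable.isIntegral_of_geometricallyConnected (k := K)
  haveI := isCommMonObj_bc k K (J := J)
  have hJK := isJacobian_bc k K r hmul
  have hjK := isAbel_bc (q := q) r hψ hj
  have hgK : Curv2.genus K (CK k K C) = n + 1 := (genus_CK k K).trans hn
  have hσK : bcσ (C ↘ Spec (CommRingCat.of k)) q σ hσ ≫ f' = 𝟙 _ := bcσ_fac _ q σ hσ
  haveI : IsProper (Red.bc q J).hom := inferInstanceAs (IsProper (pullback.snd J.hom q))
  obtain ⟨⟨rK, hψK, hmulK⟩, -⟩ := exists_rep_of_isJacobian hσK hdK hJK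
  obtain ⟨a, ha⟩ := exists_thetaLocus_eq K hdK hJK hjK rK hψK hmulK hgK
    (PicClLib.isInvertible_pullback (prC k K (C := C)) hN) ((deg_CK k K hN).trans hNdeg)
  have hIKi : PicF.IsInvertible (ClSub.idealMod IK) := by
    refine (S8914.result _).2 ?_
    have hc := isEffCartier_thetaSet K hdK hσK hJK hjK hgK a
    rwa [show IK = Scheme.IdealSheafData.vanishingIdeal (thetaSet K _ n a) from
      congrArg Scheme.IdealSheafData.vanishingIdeal (Closeds.ext ha)]
  obtain ⟨hIi, -⟩ := inverse_data hΘi hΘI
  obtain ⟨e⟩ := CurveAlgEqLib.nonempty_pullback_idealMod p hIi (hIK ▸ hIKi)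
  obtain ⟨e'⟩ := hΘI
  refine ⟨PicClLib.isInvertible_pullback p hΘi, ?_⟩
  refine H23.PicMul.cl_eq_iff.1 ?_
  rw [H23.PicMul.cl_tensor]
  show PicF.pullCl p (PicF.cl Θ) * PicF.cl (ClSub.idealMod IK) = _
  have he : PicF.cl (ClSub.idealMod (I.comap p)) = PicF.pullCl p (PicF.cl (ClSub.idealMod I)) :=
    (H23.PicMul.cl_eq_iff.2 ⟨e⟩).symm
  rw [hIK, he, ← H23.PicMul.pullCl_mul, ← H23.PicMul.cl_tensor, H23.PicMul.cl_eq_iff.2 ⟨e'⟩]
  obtain ⟨u⟩ := PicClLib.nonempty_pullback_structureModule p
  exact H23.PicMul.cl_eq_iff.2 ⟨u⟩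

end Groth.Agent.JacBC
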