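import Groth.Agent.AlbCurve.Exists
import Groth.Agent.PicRep.Bridge
import Groth.Agent.PicRep.IsJac
import Groth.Agent.AVFieldDual.DualBC
import Groth.Agent.AlbCurve.Abel

/-!
# Base change of the representing scheme of the rigidified degree zero Picard functor
-/

set_option autoImplicit false
set_option maxHeartbeats 1600000
set_option linter.style.haveILetI false
set_option linter.unusedSectionVars false
set_option backward.isDefEq.respectTransparency false
set_option backward.isDefEq.respectTransparency.types false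

universe u

open CategoryTheory CategoryTheory.Limits AlgebraicGeometry TopologicalSpace Opposite MonoidalCategory
  CartesianMonoidalCategory MonObj

noncomputable section

namespace Groth.Agent.JacBC

open Groth.Agent Groth.Agent.PicRep Groth.Agent.AlbCurve
open Groth.Agent.JacVarLib (Pc pullPc pullPc_val pullPc_comp ext_val out cl_out isInvertible_out)
open Groth.Agent.GenusOneX (sct sct_proj pt comp_pt)
open scoped Groth.Agent.H23.PicMul

attribute [local instance] GenusOneX.fibreOver GenusOneX.flat_of_family GenusOneX.lfp_of_family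

section Adj

variable {S S' : Scheme.{u}} (q : S' ⟶ S)

/-- Points of a base change. -/
def adj {J : Over S} {T : Over S'} : ((Over.map q).obj T ⟶ J) ≃ (T ⟶ Red.bc q J) :=
  (Over.mapPullbackAdj q).homEquiv T J

theorem adj_symm_left {J : Over S} {T : Over S'} (g : T ⟶ Red.bc q J) :
    ((adj q).symm g).left = g.left ≫ pullback.fst J.hom q := by
  simp [adj, Adjunction.homEquiv_counit]

theorem adj_left_fst {J : Over S} {T : Over S'} (a : (Over.map q).obj T ⟶ J) :
    (adj q a).left ≫ pullback.fst J.hom q = a.left := by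
  rw [← adj_symm_left, Equiv.symm_apply_apply]

theorem adj_symm_comp {J : Over S} {T T' : Over S'} (g : T' ⟶ T) (a : T ⟶ Red.bc q J) :
    (adj q).symm (g ≫ a) = (Over.map q).map g ≫ (adj q).symm a :=
  (Over.mapPullbackAdj q).homEquiv_naturality_left_symm g a

theorem adj_symm_comp_map {J J' : Over S} {T : Over S'} (a : T ⟶ Red.bc q J) (m : J ⟶ J') :
    (adj q).symm (a ≫ (Over.pullback q).map m) = (adj q).symm a ≫ m :=
  (Over.mapPullbackAdj q).homEquiv_naturality_right_symm a m

theorem adj_symm_mul {J : Over S} [GrpObj J] {T : Over S'} (a b : T ⟶ Red.bc q J) :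
    (adj q).symm (a * b) = (adj q).symm a * (adj q).symm b := by
  refine Over.OverMorphism.ext ((adj_symm_left q _).trans ?_)
  exact AVField.mul_bc_fst q a b _ _ (adj_symm_left q a).symm (adj_symm_left q b).symm

end Adj

section Rep

variable {X S S' : Scheme.{u}} {f : X ⟶ S} [IsProper f] [SmoothOfRelativeDimension 1 f] [GeometricallyConnected f]
  (q : S' ⟶ S) {σ : S ⟶ X} {hσ : σ ≫ f = 𝟙 S} {J : Over S}

theorem proj_eT (T : Over S') :
    (eT f q T).hom ≫ PicF.XTproj f ((Over.map q).obj T) = PicF.XTproj (bcf f q) T := eT_proj f q T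

theorem XTmap_eT {T T' : Over S'} (g : T' ⟶ T) :
    PicF.XTmap (bcf f q) g ≫ (eT f q T).hom = (eT f q T').hom ≫ PicF.XTmap f ((Over.map q).map g) := by
  rw [← Iso.inv_comp_eq, ← Category.assoc, eT_map, Category.assoc, Iso.inv_hom_id, Category.comp_id]

theorem rho_eT (T : Over S') (v : Pc (PicF.XT f ((Over.map q).obj T))) :
    rho (bcf f q) (bcσ f q σ hσ) (bcσ_fac f q σ hσ) (pullPc (eT f q T).hom v) =
      pullPc (eT f q T).hom (rho f σ hσ v) := by
  have h1 : pullPc (PicF.secT (bcf f q) (bcσ f q σ hσ) (bcσ_fac f q σ hσ) T) (pullPc (eT f q T).hom v) =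
      pullPc (PicF.secT f σ hσ ((Over.map q).obj T)) v :=
    (pullPc_comp _ _ v).trans (congrArg (fun m => pullPc m v) (secT_eT f q σ hσ T))
  have h2 : ∀ w : Pc T.left, pullPc (eT f q T).hom (pullPc (PicF.XTproj f ((Over.map q).obj T)) w) =
      pullPc (PicF.XTproj (bcf f q) T) w := fun w =>
    (pullPc_comp _ _ w).trans (congrArg (fun m => pullPc m w) (proj_eT q T))
  rw [rho, rho, map_mul, map_inv, h1, h2]

/-- The base change of a representation. -/
def bcRep (r : (funct0 f σ hσ).RepresentableBy J) :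
    (funct0 (bcf f q) (bcσ f q σ hσ) (bcσ_fac f q σ hσ)).RepresentableBy (Red.bc q J) where
  homEquiv {T} :=
    { toFun := fun g => elt0 (pullPc (eT f q T).hom (val0 (r.homEquiv ((adj q).symm g))))
        (pull_hom_mem f q σ hσ (val0_mem _))
      invFun := fun x => adj q (r.homEquiv.symm (elt0 (pullPc (eT f q T).inv (val0 x)) (pull_inv_mem f q σ hσ (val0_mem x))))
      left_inv := fun g => by
        refine (Equiv.eq_symm_apply _).1 (r.homEquiv.injective (val0_injective ?_))
        rw [Equiv.apply_symm_apply, val0_elt0, val0_elt0, pull_inv_hom]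
      right_inv := fun x => by
        refine val0_injective ?_
        rw [val0_elt0, Equiv.symm_apply_apply, Equiv.apply_symm_apply, val0_elt0, pull_hom_inv] }
  homEquiv_comp {T T'} g g' := by
    refine val0_injective ?_
    show val0 (elt0 _ _) = val0 ((funct0 (bcf f q) (bcσ f q σ hσ) (bcσ_fac f q σ hσ)).map g.op (elt0 _ _))
    rw [val0_elt0, val0_map, val0_elt0, adj_symm_comp, r.homEquiv_comp, val0_map, pullPc_comp, pullPc_comp, XTmap_eT]

variable (r : (funct0 f σ hσ).RepresentableBy J)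

theorem val0_bcRep {T : Over S'} (g : T ⟶ Red.bc q J) :
    val0 ((bcRep q r).homEquiv g) = pullPc (eT f q T).hom (val0 (r.homEquiv ((adj q).symm g))) :=
  val0_elt0 _ _

theorem val0_bcRep_mul [GrpObj J]
    (hmul : ∀ (T : Over S) (a b : T ⟶ J), val0 (r.homEquiv (a * b)) = val0 (r.homEquiv a) * val0 (r.homEquiv b))
    (T : Over S') (a b : T ⟶ Red.bc q J) :
    val0 ((bcRep q r).homEquiv (a * b)) = val0 ((bcRep q r).homEquiv a) * val0 ((bcRep q r).homEquiv b) := by
  rw [val0_bcRep, val0_bcRep, val0_bcRep, adj_symm_mul, hmul, map_mul]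

/-- The classifying map after base change. -/
theorem phi0_bc {T : Over S'} {E : (PicF.XT f ((Over.map q).obj T)).Modules}
    {E' : (PicF.XT (bcf f q) T).Modules} (hcl : PicF.cl E' = PicF.pullCl (eT f q T).hom (PicF.cl E))
    (hE : (ModFun.PicDeg f 0).ok ((Over.map q).obj T) E) :
    ∃ hE' : (ModFun.PicDeg (bcf f q) 0).ok T E',
      (adj q).symm (phi0 (bcRep q r) T (PicF.cl E')) = phi0 r _ (PicF.cl E) := by
  have hv : toPc (PicF.cl E) ⟨E, rfl, invertible_of_ok hE⟩ ∈ PZ f ((Over.map q).obj T) :=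
    mem_PZ.2 fun t => by
      rw [toPc_val]; exact ((Jacobian.isPicZeroCl_iff f).1 ((ok_iff f).1 hE)).2 t
  have hv' : pullPc (eT f q T).hom (toPc (PicF.cl E) ⟨E, rfl, invertible_of_ok hE⟩) ∈ PZ (bcf f q) T :=
    mem_PZ.2 fun t => (deg_eT f q T _ t).trans (mem_PZ.1 hv t)
  have hval : (pullPc (eT f q T).hom (toPc (PicF.cl E) ⟨E, rfl, invertible_of_ok hE⟩)).1.val = PicF.cl E' := by
    rw [pullPc_val, toPc_val, hcl]
  have hE' : (ModFun.PicDeg (bcf f q) 0).ok T E' :=
    (ok_iff _).2 (by rw [← hval]; exact isPicZeroCl_of_mem hv')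
  refine ⟨hE', r.homEquiv.injective (val0_injective ?_)⟩
  have h1 := val0_bcRep q r (phi0 (bcRep q r) T (PicF.cl E'))
  rw [val0_phi0_cl (bcRep q r) hE'] at h1
  rw [val0_phi0_cl r hE]
  have h2 : pullPc (eT f q T).hom (rho f σ hσ (toPc (PicF.cl E) ⟨E, rfl, invertible_of_ok hE⟩)) =
      pullPc (eT f q T).hom (val0 (r.homEquiv ((adj q).symm (phi0 (bcRep q r) T (PicF.cl E'))))) := by
    rw [← h1, ← rho_eT]
    exact congrArg _ (ext_val (hval.trans (toPc_val _ _).symm))
  have h3 := congrArg (pullPc (eT f q T).inv) h2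
  rw [pull_inv_hom, pull_inv_hom] at h3
  exact h3.symm

/-- The group law after base change is the tensor product. -/
theorem mul_bc [GrpObj J]
    (hmul : ∀ (T : Over S) (a b : T ⟶ J), val0 (r.homEquiv (a * b)) = val0 (r.homEquiv a) * val0 (r.homEquiv b))
    (T : Over S') (L M N : (PicF.XT (bcf f q) T).Modules) (hL : (ModFun.PicDeg (bcf f q) 0).ok T L)
    (hM : (ModFun.PicDeg (bcf f q) 0).ok T M) (hN : (ModFun.PicDeg (bcf f q) 0).ok T N)
    (e : Nonempty (N ≅ CohB1.tensorMod L M)) :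
    phi0 (bcRep q r) T (PicF.cl N) = phi0 (bcRep q r) T (PicF.cl L) * phi0 (bcRep q r) T (PicF.cl M) := by
  refine (bcRep q r).homEquiv.injective (val0_injective ?_)
  rw [val0_bcRep_mul q r hmul, val0_phi0_cl _ hL, val0_phi0_cl _ hM, val0_phi0_cl _ hN]
  have h : toPc (PicF.cl N) ⟨N, rfl, invertible_of_ok hN⟩ =
      toPc (PicF.cl L) ⟨L, rfl, invertible_of_ok hL⟩ * toPc (PicF.cl M) ⟨M, rfl, invertible_of_ok hM⟩ := by
    obtain ⟨e⟩ := e
    refine ext_val ?_
    rw [Subgroup.coe_mul, Units.val_mul, toPc_val, toPc_val, toPc_val]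
    exact (H23.PicMul.cl_eq_iff.2 ⟨e⟩).trans (H23.PicMul.cl_tensor _ _)
  rw [h]
  rw [rho, rho, rho, map_mul, map_mul, mul_inv, _root_.mul_mul_mul_comm]

/-- The sections of a point and of its base change. -/
theorem pull_ptPc_bc {T : Over S'} (x : T ⟶ Over.mk (bcf f q)) :
    pullPc (eT f q T).hom (ptPc ((adj q (J := Over.mk f)).symm x)) = ptPc x := by
  let xS : (Over.map q).obj T ⟶ Over.mk f := (adj q (J := Over.mk f)).symm x
  have hsq : IsPullback (eT f q T).hom (PicF.XTproj (bcf f q) T) (PicF.XTproj f ((Over.map q).obj T)) (𝟙 _) :=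
    IsPullback.of_horiz_isIso ⟨by rw [eT_proj, Category.comp_id]⟩
  have hs : sct (bcf f q) x ≫ (eT f q T).hom = 𝟙 T.left ≫ sct f xS := by
    rw [Category.id_comp]
    refine pullback.hom_ext ?_ ?_
    · simp [sct, eT, AgPol.bcXTIso, xS, adj_symm_left]
    · simp [sct, eT, AgPol.bcXTIso]
  have hc := GenusOneX.comap_ker_section hsq (sct_proj f xS) (sct_proj (bcf f q) x) hs
  have hi := GenusOneX.isInvertible_ker (PicF.XTproj f ((Over.map q).obj T)) (sct_proj f xS)
  have hi' := GenusOneX.isInvertible_ker (PicF.XTproj (bcf f q) T) (sct_proj (bcf f q) x)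
  obtain ⟨e⟩ := CurveAlgEqLib.nonempty_pullback_idealMod (eT f q T).hom hi (J := (sct f xS).ker) (hc ▸ hi')
  refine ext_val ?_
  rw [pullPc_val, ptPc, ptPc, toPc_val, toPc_val]
  exact H23.PicMul.cl_eq_iff.2 ⟨e ≪≫ eqToIso (by rw [hc])⟩

theorem adj_symm_pt (T : Over S') :
    (adj q (J := Over.mk f)).symm (pt (bcf f q) (bcσ f q σ hσ) (bcσ_fac f q σ hσ) T) =
      pt f σ hσ ((Over.map q).obj T) := by
  refine Over.OverMorphism.ext ((adj_symm_left q _).trans ?_)
  show (T.hom ≫ bcσ f q σ hσ) ≫ pullback.fst f q = (T.hom ≫ q) ≫ σ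
  rw [Category.assoc, bcσ, pullback.lift_fst, Category.assoc]

/-- The base change of a morphism out of the curve. -/
def bcMor (j : Over.mk f ⟶ J) : Over.mk (bcf f q) ⟶ Red.bc q J :=
  adj q ((adj q (J := Over.mk f)).symm (𝟙 (Over.mk (bcf f q))) ≫ j)

theorem adj_symm_comp_bcMor {T : Over S'} (x : T ⟶ Over.mk (bcf f q)) (j : Over.mk f ⟶ J) :
    (adj q).symm (x ≫ bcMor q j) = (adj q (J := Over.mk f)).symm x ≫ j := by
  rw [adj_symm_comp, bcMor, Equiv.symm_apply_apply, ← Category.assoc, ← adj_symm_comp, Category.comp_id]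

variable {q}

/-- The base change of an Abel map is an Abel map. -/
theorem isAbel_bc
    {ψ : (ModFun.PicDeg f 0).Hom ⊤ J}
    (hψ : ∀ (T : Over S) (E : (PicF.XT f T).Modules) (hT : (⊤ : ObjectProperty (Over S)) T)
      (h : (ModFun.PicDeg f 0).ok T E), ψ.app T E hT h = phi0 r T (PicF.cl E))
    {j : Over.mk f ⟶ J} (hj : Jac.IsAbelJacobiAt f σ ψ j) :
    Jac.IsAbelJacobiAt (bcf f q) (bcσ f q σ hσ) (psi0 (bcRep q r))
      (bcMor q j) := by
  obtain ⟨j', hj'⟩ := exists_abel (σ := bcσ f q σ hσ) (bcσ_fac f q σ hσ) (psi0 (bcRep q r))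
  suffices h : j' = bcMor q j from h ▸ hj'
  refine (bcRep q r).homEquiv.injective (val0_injective ?_)
  have h1 := val0_abel (bcRep q r) (fun T E hT h => rfl) hj' (𝟙 (Over.mk (bcf f q)))
  rw [Category.id_comp] at h1
  rw [h1, val0_bcRep]
  rw [bcMor, Equiv.symm_apply_apply]
  rw [val0_abel r hψ hj, ← rho_eT, map_mul, map_inv, ← adj_symm_pt, pull_ptPc_bc, pull_ptPc_bc]

end Rep

end Groth.Agent.JacBC
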