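import Groth.Agent.JacBC.Field
import Groth.Agent.AVFieldDual.DualBC
import Groth.Agent.AlbCurve.ThetaLam

/-!
# Base change of Poincaré classes, and faithfulness of base change along field extensions
-/

set_option autoImplicit false
set_option maxHeartbeats 1600000
set_option linter.style.haveILetI false
set_option linter.unusedSectionVars false
set_option backward.isDefEq.respectTransparency false
set_option backward.isDefEq.respectTransparency.types false

universe u

open CategoryTheory CategoryTheory.Limits AlgebraicGeometry TopologicalSpace Opposite MonoidalCategory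
  CartesianMonoidalCategory MonObj

noncomputable section

namespace Groth.Agent.JacBC

open Groth.Agent Groth.Agent.PicRep
open scoped Groth.Agent.H23.PicMul

variable {S S' : Scheme.{u}} (q : S' ⟶ S)

/-- The projection of a base change, over the original base. -/
def prO (A : Over S) : (Over.map q).obj (Red.bc q A) ⟶ A := (adj q).symm (𝟙 (Red.bc q A))

theorem prO_left (A : Over S) : (prO q A).left = pullback.fst A.hom q :=
  (adj_symm_left q _).trans (Category.id_comp _)

theorem adj_symm_map {A B : Over S} (a : A ⟶ B) : (adj q).symm ((Over.pullback q).map a) = prO q A ≫ a := by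
  rw [prO, ← adj_symm_comp_map, Category.id_comp]

theorem map_inv_id {A : Over S} [GrpObj A] :
    (Over.pullback q).map ((𝟙 A)⁻¹) = (𝟙 (Red.bc q A))⁻¹ := by
  refine (adj q).symm.injective ?_
  have h := map_inv (MonoidHom.mk' (fun a => (adj q).symm a) (adj_symm_mul q (J := A) (T := Red.bc q A))) (𝟙 (Red.bc q A))
  simp only [MonoidHom.mk'_apply] at h
  rw [adj_symm_map, h, GrpObj.comp_inv, Category.comp_id]
  rfl

/-- The base change along a field extension is faithful. -/
theorem map_injective [Flat q] [Surjective q] [QuasiCompact q] {A B : Over S} {a b : A ⟶ B}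
    (h : (Over.pullback q).map a = (Over.pullback q).map b) : a = b := by
  haveI : Flat (pullback.fst A.hom q) := MorphismProperty.pullback_fst (P := @Flat) A.hom q inferInstance
  haveI : Surjective (pullback.fst A.hom q) := MorphismProperty.pullback_fst (P := @Surjective) A.hom q inferInstance
  haveI : Epi (pullback.fst A.hom q) := Flat.epi_of_flat_of_surjective _
  have h' := congrArg (adj q).symm h
  rw [adj_symm_map, adj_symm_map] at h'
  refine Over.OverMorphism.ext ((cancel_epi (pullback.fst A.hom q)).1 ?_)
  rw [← prO_left]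
  exact congrArg (fun m => m.left) h'

variable {A At : Over S} [GrpObj A] [GrpObj At] {φ : AgPol.DualMap A At}
  (hφ : AbDual.IsDualAV Scheme.fppfPrecoverage A At φ)

/-- The base change of a Poincaré class. -/
def poinBC (ξ : PicF.Cl (PicF.XT A.hom At)) : PicF.Cl (PicF.XT (Red.bc q A).hom (Red.bc q At)) :=
  PicF.pullCl ((AgPol.bcXTIso q A (Red.bc q At)).hom ≫ PicF.XTmap A.hom (prO q At)) ξ

include hφ in
/-- **The base change of a Poincaré class is a Poincaré class.** -/
theorem isPoincareCl_bc {ξ : PicF.Cl (PicF.XT A.hom At)} (hξ : AbDual.IsPoincareCl A At φ ξ) :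
    AbDual.IsPoincareCl (Red.bc q A) (Red.bc q At) (AgPol.bcDual q A At φ) (poinBC q ξ) := by
  let U := Red.bc q At
  have h1 : AbDual.IsPicZeroCl A.hom ((Over.map q).obj U) (PicF.pullCl (PicF.XTmap A.hom (prO q At)) ξ) :=
    AbDualBase.pz_xtMap (prO q At) hξ.1
  have e : poinBC q ξ = PicF.pullCl (AgPol.bcXTIso q A U).hom (PicF.pullCl (PicF.XTmap A.hom (prO q At)) ξ) :=
    (PicClLib.pullCl_comp _ _ _).symm
  refine ⟨?_, ?_, ?_⟩
  · rw [e]
    exact AVField.pz_transport' q A U h1
  · refine Over.OverMorphism.ext (pullback.hom_ext ?_ ?_)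
    · rw [AVField.bcDual_fst, e, PicClLib.pullCl_comp, Iso.inv_hom_id, PicClLib.pullCl_id]
      refine (congrArg CommaMorphism.left (hφ.relPic.natural At ((Over.map q).obj U) (prO q At) ξ hξ.1)).trans ?_
      rw [hξ.2.1, Category.comp_id]
      exact (prO_left q At).trans (Category.id_comp _).symm
    · exact (Over.w _).trans (Category.id_comp _).symm
  · have hsec : PicF.secT (Red.bc q A).hom η[Red.bc q A].left (Over.w η[Red.bc q A]) U ≫
        ((AgPol.bcXTIso q A U).hom ≫ PicF.XTmap A.hom (prO q At)) =
          (prO q At).left ≫ PicF.secT A.hom η[A].left (Over.w η[A]) At := by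
      have h1 : (adj q).symm (1 : U ⟶ Red.bc q A) = 1 :=
        map_one (MonoidHom.mk' (fun a => (adj q).symm a) (adj_symm_mul q (J := A) (T := U)))
      have h2 := congrArg (fun m => m.left) h1
      simp only [adj_symm_left] at h2
      refine pullback.hom_ext ?_ ?_
      · simp [PicF.secT, PicF.XTmap, AgPol.bcXTIso]
        refine Eq.trans ?_ (Eq.trans h2 ?_)
        · show _ = ((toUnit U ≫ η[Red.bc q A]).left) ≫ pullback.fst A.hom q
          simp
        · show (toUnit ((Over.map q).obj U) ≫ η[A]).left = _
          rw [← comp_toUnit (prO q At), Category.assoc]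
          simp
          rfl
      · simp [PicF.secT, PicF.XTmap, AgPol.bcXTIso]
        exact Category.id_comp _
    show PicF.IsTrivialCl (PicF.pullCl _ (poinBC q ξ))
    rw [poinBC, PicClLib.pullCl_comp, hsec, ← PicClLib.pullCl_comp]
    have ht := hξ.2.2
    unfold PicF.IsTrivialCl at ht ⊢
    rw [ht]
    obtain ⟨e⟩ := PicClLib.nonempty_pullback_structureModule (prO q At).left
    exact H23.PicMul.cl_eq_iff.2 ⟨e⟩

/-- The pullbacks along a morphism from the curve and along its base change. -/
theorem bcMap_bcMor {X : Scheme.{u}} {f : X ⟶ S} [IsProper f] [SmoothOfRelativeDimension 1 f]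
    [GeometricallyConnected f] (j : Over.mk f ⟶ A) :
    AbDual.bcMap (bcMor q j) (Red.bc q At) ≫ ((AgPol.bcXTIso q A (Red.bc q At)).hom ≫ PicF.XTmap A.hom (prO q At)) =
      (PicRep.eT f q (Red.bc q At)).hom ≫ PicF.XTmap f (prO q At) ≫ AbDual.bcMap j At := by
  have hj : (bcMor q j).left ≫ pullback.fst A.hom q = pullback.fst f q ≫ j.left := by
    rw [bcMor, adj_left_fst]
    exact congrArg (· ≫ j.left) ((adj_symm_left q _).trans (Category.id_comp _))
  refine pullback.hom_ext ?_ ?_
  · simp [AbDual.bcMap, PicF.XTmap, AgPol.bcXTIso, PicRep.eT, hj]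
  · simp [AbDual.bcMap, PicF.XTmap, AgPol.bcXTIso, PicRep.eT]

end Groth.Agent.JacBC
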