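import Groth.Agent.JacBC.Basic
import Groth.Agent.CurveBC.Main
import Groth.Agent.Lib.CurveStable
import Groth.Agent.FBaseLib.Basic
import Groth.Agent.AlbCurve.ThetaLocus

/-!
# Base change of Jacobians of pointed curves along field extensions
-/

set_option autoImplicit false
set_option maxHeartbeats 1600000
set_option linter.style.haveILetI false
set_option linter.unusedSectionVars false
set_option backward.isDefEq.respectTransparency false
set_option backward.isDefEq.respectTransparency.types false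

universe u

open CategoryTheory CategoryTheory.Limits AlgebraicGeometry TopologicalSpace Opposite MonoidalCategory
  CartesianMonoidalCategory MonObj

noncomputable section

namespace Groth.Agent.JacBC

open Groth.Agent Groth.Agent.PicRep Groth.Agent.AlbCurve
open Groth.Agent.JacVarLib (Pc pullPc pullPc_val pullPc_comp ext_val out cl_out isInvertible_out)
open scoped Groth.Agent.H23.PicMul

attribute [local instance] Jacobian.curveOver GenusOneX.fibreOver GenusOneX.flat_of_family GenusOneX.lfp_of_family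

/-- The morphism of the spectra of a field extension. -/
abbrev spq (k K : Type u) [Field k] [Field K] [Algebra k K] : Spec (CommRingCat.of K) ⟶ Spec (CommRingCat.of k) :=
  Spec.map (CommRingCat.ofHom (algebraMap k K))

variable (k K : Type u) [Field k] [Field K] [Algebra k K] {C : Scheme.{u}} [C.Over (Spec (CommRingCat.of k))]

/-- The curve over the bigger field. -/
abbrev CK (C : Scheme.{u}) [C.Over (Spec (CommRingCat.of k))] : Scheme.{u} :=
  pullback (C ↘ Spec (CommRingCat.of k)) (spq k K)

/-- Its structure. -/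
@[implicit_reducible] def overCK : (CK k K C).Over (Spec (CommRingCat.of K)) :=
  ⟨bcf (C ↘ Spec (CommRingCat.of k)) (spq k K)⟩

attribute [local instance] overCK

section Facts

variable [IsProper (C ↘ Spec (CommRingCat.of k))] [SmoothOfRelativeDimension 1 (C ↘ Spec (CommRingCat.of k))]
  [GeometricallyConnected (C ↘ Spec (CommRingCat.of k))]

instance isProper_CK : IsProper (CK k K C ↘ Spec (CommRingCat.of K)) :=
  inferInstanceAs (IsProper (bcf (C ↘ Spec (CommRingCat.of k)) (spq k K)))

instance smoothDim_CK : SmoothOfRelativeDimension 1 (CK k K C ↘ Spec (CommRingCat.of K)) :=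
  inferInstanceAs (SmoothOfRelativeDimension 1 (bcf (C ↘ Spec (CommRingCat.of k)) (spq k K)))

instance smooth_CK : Smooth (CK k K C ↘ Spec (CommRingCat.of K)) :=
  SmoothOfRelativeDimension.smooth (n := 1) _

instance geomConn_CK : GeometricallyConnected (CK k K C ↘ Spec (CommRingCat.of K)) :=
  inferInstanceAs (GeometricallyConnected (bcf (C ↘ Spec (CommRingCat.of k)) (spq k K)))

/-- The projection of the curve. -/
abbrev prC : CK k K C ⟶ C := pullback.fst (C ↘ Spec (CommRingCat.of k)) (spq k K)

theorem isPullback_prC : IsPullback (prC k K (C := C)) (CK k K C ↘ Spec (CommRingCat.of K))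
    (C ↘ Spec (CommRingCat.of k)) (spq k K) := IsPullback.of_hasPullback _ _

theorem dim_CK (hdim : topologicalKrullDim C = 1) : topologicalKrullDim (CK k K C) = 1 := by
  haveI : QuasiSeparatedSpace C := quasiSeparatedSpace_of_quasiSeparated (C ↘ Spec (CommRingCat.of k))
  haveI := QuasiCompact.compactSpace_of_compactSpace (C ↘ Spec (CommRingCat.of k))
  haveI : Smooth (C ↘ Spec (CommRingCat.of k)) := SmoothOfRelativeDimension.smooth (n := 1) _
  exact CurveBC.topologicalKrullDim_eq k K (prC k K) (isPullback_prC k K) hdim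

theorem genus_CK : Curv2.genus K (CK k K C) = Curv2.genus k C := by
  haveI : QuasiSeparatedSpace C := quasiSeparatedSpace_of_quasiSeparated (C ↘ Spec (CommRingCat.of k))
  haveI := QuasiCompact.compactSpace_of_compactSpace (C ↘ Spec (CommRingCat.of k))
  exact CurveBC.genus_eq k K (prC k K) (isPullback_prC k K)

theorem deg_CK {N : C.Modules} (hN : PicF.IsInvertible N) :
    Curv2.deg K (CK k K C) ((Scheme.Modules.pullback (prC k K)).obj N) 1 = Curv2.deg k C N 1 := by
  haveI : QuasiSeparatedSpace C := quasiSeparatedSpace_of_quasiSeparated (C ↘ Spec (CommRingCat.of k))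
  haveI := QuasiCompact.compactSpace_of_compactSpace (C ↘ Spec (CommRingCat.of k))
  exact CurveBC.deg_eq k K (prC k K) (isPullback_prC k K) N (ProjUPX.isQCoh_of_isInvertible hN) 1

variable {σ : Spec (CommRingCat.of k) ⟶ C} {hσ : σ ≫ (C ↘ Spec (CommRingCat.of k)) = 𝟙 _}
  {J : Over (Spec (CommRingCat.of k))}

/-- The base change of a commutative group scheme is commutative. -/
theorem isCommMonObj_bc [GrpObj J] [IsCommMonObj J] : IsCommMonObj (Red.bc (spq k K) J) := by
  refine ⟨?_⟩
  have h : (snd (Red.bc (spq k K) J) (Red.bc (spq k K) J)) * fst _ _ = fst _ _ * snd _ _ := by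
    refine (adj (spq k K)).symm.injective ?_
    rw [adj_symm_mul, adj_symm_mul, _root_.mul_comm]
  rw [Hom.mul_def, Hom.mul_def, lift_fst_snd, Category.id_comp] at h
  refine Eq.trans ?_ h
  refine congrArg (· ≫ μ[Red.bc (spq k K) J]) (CartesianMonoidalCategory.hom_ext _ _ ?_ ?_) <;> simp

/-- The classifying map after base change. -/
abbrev psiK (r : (funct0 (C ↘ Spec (CommRingCat.of k)) σ hσ).RepresentableBy J) :
    (ModFun.PicDeg (CK k K C ↘ Spec (CommRingCat.of K)) 0).Hom ⊤ (Red.bc (spq k K) J) :=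
  psi0 (bcRep (spq k K) r)

variable (r : (funct0 (C ↘ Spec (CommRingCat.of k)) σ hσ).RepresentableBy J)

/-- The base change of a Jacobian is a Jacobian. -/
theorem isJacobian_bc [GrpObj J]
    (hmul : ∀ (T : Over (Spec (CommRingCat.of k))) (a b : T ⟶ J),
      val0 (r.homEquiv (a * b)) = val0 (r.homEquiv a) * val0 (r.homEquiv b)) :
    Jac.IsJacobian (CK k K C ↘ Spec (CommRingCat.of K)) ⊤ (Red.bc (spq k K) J) (psiK k K r) := by
  obtain ⟨hc, -⟩ := isJacobian_psi0 (bcRep (spq k K) r)
  refine ⟨hc, ?_⟩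
  intro T hT L M N hL hM hN e
  exact mul_bc (spq k K) r hmul T L M N hL hM hN e

end Facts

section Sections

variable {Z Z' : Scheme.{u}} [Z.Over (Spec (CommRingCat.of k))] [Z'.Over (Spec (CommRingCat.of K))]
  [IsProper (Z ↘ Spec (CommRingCat.of k))] [IsProper (Z' ↘ Spec (CommRingCat.of K))]

/-- Vanishing of global sections does not depend on the field. -/
theorem subsingleton_HH_bc (g : Z' ⟶ Z)
    (hpb : IsPullback g (Z' ↘ Spec (CommRingCat.of K)) (Z ↘ Spec (CommRingCat.of k)) (spq k K))
    {M : Z.Modules} (hM : PicF.IsInvertible M) :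
    Subsingleton (Coh.HH Z' ((Scheme.Modules.pullback g).obj M) 0) ↔ Subsingleton (Coh.HH Z M 0) := by
  haveI : QuasiSeparatedSpace Z := quasiSeparatedSpace_of_quasiSeparated (Z ↘ Spec (CommRingCat.of k))
  haveI := QuasiCompact.compactSpace_of_compactSpace (Z ↘ Spec (CommRingCat.of k))
  haveI := CurveCohLib.isNoetherian_of_proper (k := k) (X := Z)
  haveI := CurveCohLib.isNoetherian_of_proper (k := K) (X := Z')
  haveI := CurveCohLib.finite_HH (k := k) (CurveDeg.isCoh_of_isInvertible hM) 0
  haveI := CurveCohLib.finite_HH (k := K)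
    (CurveDeg.isCoh_of_isInvertible (PicClLib.isInvertible_pullback g hM)) 0
  rw [← Module.finrank_zero_iff (R := K), CurveBC.finrank_hh k K g hpb M (ProjUPX.isQCoh_of_isInvertible hM) 0,
    Module.finrank_zero_iff]

end Sections

section Jump

variable {k K}
variable {X S : Scheme.{u}} (f : X ⟶ S) [IsProper f]

/-- The jump condition. -/
def Sec (N : X.Modules) {Ω : Type u} [Field Ω] (s : Spec (CommRingCat.of Ω) ⟶ S)
    (L : (PicF.XT f (Over.mk s)).Modules) : Prop :=
  ¬ Subsingleton (Coh.HH (PicF.XT f (Over.mk s))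
    (CohB1.tensorMod L ((Scheme.Modules.pullback (pullback.fst f s)).obj N)) 0)

/-- The jump condition is insensitive to extensions of the field and to isomorphisms of the presentation. -/
theorem sec_iff {X' S' : Scheme.{u}} (f' : X' ⟶ S') [IsProper f'] {N : X.Modules} (hN : PicF.IsInvertible N)
    {N' : X'.Modules} {Ω Ω' : Type u} [Field Ω] [Field Ω'] [Algebra Ω Ω']
    (s : Spec (CommRingCat.of Ω) ⟶ S) (s' : Spec (CommRingCat.of Ω') ⟶ S')
    (g : PicF.XT f' (Over.mk s') ⟶ PicF.XT f (Over.mk s))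
    (hpb : IsPullback g (PicF.XTproj f' (Over.mk s')) (PicF.XTproj f (Over.mk s)) (spq Ω Ω'))
    (hN' : PicF.cl ((Scheme.Modules.pullback (pullback.fst f' s')).obj N') =
      PicF.pullCl g (PicF.cl ((Scheme.Modules.pullback (pullback.fst f s)).obj N)))
    {L : (PicF.XT f (Over.mk s)).Modules} (hL : PicF.IsInvertible L) {L' : (PicF.XT f' (Over.mk s')).Modules}
    (hL' : PicF.cl L' = PicF.pullCl g (PicF.cl L)) :
    Sec f' N' s' L' ↔ Sec f N s L := by
  letI : (PicF.XT f (Over.mk s)).Over (Spec (CommRingCat.of Ω)) := ⟨PicF.XTproj f (Over.mk s)⟩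
  letI : (PicF.XT f' (Over.mk s')).Over (Spec (CommRingCat.of Ω')) := ⟨PicF.XTproj f' (Over.mk s')⟩
  haveI : IsProper (PicF.XT f (Over.mk s) ↘ Spec (CommRingCat.of Ω)) := inferInstanceAs (IsProper (pullback.snd f s))
  haveI : IsProper (PicF.XT f' (Over.mk s') ↘ Spec (CommRingCat.of Ω')) :=
    inferInstanceAs (IsProper (pullback.snd f' s'))
  refine not_congr ?_
  have hM : PicF.IsInvertible (CohB1.tensorMod L ((Scheme.Modules.pullback (pullback.fst f s)).obj N)) :=
    InvX.isInvertible_tensorMod hL (PicClLib.isInvertible_pullback _ hN)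
  obtain ⟨e⟩ : Nonempty (CohB1.tensorMod L' ((Scheme.Modules.pullback (pullback.fst f' s')).obj N') ≅
      (Scheme.Modules.pullback g).obj (CohB1.tensorMod L ((Scheme.Modules.pullback (pullback.fst f s)).obj N))) := by
    refine H23.PicMul.cl_eq_iff.1 ((H23.PicMul.cl_tensor _ _).trans ?_)
    show _ = PicF.pullCl g (PicF.cl (CohB1.tensorMod _ _))
    rw [H23.PicMul.cl_tensor, H23.PicMul.pullCl_mul, hL', hN']
  exact Iff.trans ⟨QCoh.subsingleton_HH_of_iso e 0, QCoh.subsingleton_HH_of_iso e.symm 0⟩
    (subsingleton_HH_bc Ω Ω' g hpb hM)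

end Jump

section Theta

variable [IsProper (C ↘ Spec (CommRingCat.of k))] [SmoothOfRelativeDimension 1 (C ↘ Spec (CommRingCat.of k))]
  [GeometricallyConnected (C ↘ Spec (CommRingCat.of k))]
  {σ : Spec (CommRingCat.of k) ⟶ C} {hσ : σ ≫ (C ↘ Spec (CommRingCat.of k)) = 𝟙 _}
  {J : Over (Spec (CommRingCat.of k))}
  {ψ : (ModFun.PicDeg (C ↘ Spec (CommRingCat.of k)) 0).Hom ⊤ J}
  (r : (funct0 (C ↘ Spec (CommRingCat.of k)) σ hσ).RepresentableBy J)
  (hψ : ∀ (T : Over (Spec (CommRingCat.of k))) (E : (PicF.XT (C ↘ Spec (CommRingCat.of k)) T).Modules)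
    (hT : (⊤ : ObjectProperty (Over (Spec (CommRingCat.of k)))) T)
    (h : (ModFun.PicDeg (C ↘ Spec (CommRingCat.of k)) 0).ok T E), ψ.app T E hT h = phi0 r T (PicF.cl E))
  {N : C.Modules} (hN : PicF.IsInvertible N)

include hψ hN in
theorem jumpLocus_bc :
    Jac.jumpLocus (CK k K C ↘ Spec (CommRingCat.of K)) 0 (psiK k K r) ((Scheme.Modules.pullback (prC k K)).obj N) =
      (pullback.fst J.hom (spq k K)).base ⁻¹' Jac.jumpLocus (C ↘ Spec (CommRingCat.of k)) 0 ψ N := by
  let f := C ↘ Spec (CommRingCat.of k)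
  let q := spq k K
  let f' := CK k K C ↘ Spec (CommRingCat.of K)
  ext y
  constructor
  · rintro ⟨Ω, _, _, t, hT, L', hL', hsec, p, rfl⟩
    let T : Over (Spec (CommRingCat.of K)) := Over.mk t
    let L : (PicF.XT f ((Over.map q).obj T)).Modules := (Scheme.Modules.pullback (eT f q T).inv).obj L'
    have hcl : PicF.cl L' = PicF.pullCl (eT f q T).hom (PicF.cl L) := by
      show _ = PicF.pullCl _ (PicF.pullCl _ (PicF.cl L'))
      rw [PicClLib.pullCl_comp, Iso.hom_inv_id, PicClLib.pullCl_id]
    have hi : PicF.IsInvertible L := PicClLib.isInvertible_pullback _ (invertible_of_ok hL')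
    have hok : (ModFun.PicDeg f 0).ok ((Over.map q).obj T) L := by
      refine (ok_iff f).2 ?_
      have hv' : toPc (PicF.cl L') ⟨L', rfl, invertible_of_ok hL'⟩ ∈ PZ (bcf f q) T := mem_PZ.2 fun x => by
        rw [toPc_val]; exact ((Jacobian.isPicZeroCl_iff _).1 ((ok_iff _).1 hL')).2 x
      have hv : toPc (PicF.cl L) ⟨L, rfl, hi⟩ ∈ PZ f ((Over.map q).obj T) := mem_PZ.2 fun x => by
        rw [← deg_eT f q T, show pullPc (eT f q T).hom (toPc (PicF.cl L) ⟨L, rfl, hi⟩) =
          toPc (PicF.cl L') ⟨L', rfl, invertible_of_ok hL'⟩ from ext_val (by rw [pullPc_val, toPc_val, toPc_val, hcl])]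
        exact mem_PZ.1 hv' x
      rw [← toPc_val (PicF.cl L) ⟨L, rfl, hi⟩]
      exact isPicZeroCl_of_mem hv
    obtain ⟨hE', he⟩ := phi0_bc q r hcl hok
    refine ⟨Ω, inferInstance, inferInstance, t ≫ q, trivial, L, hok, ?_, p, ?_⟩
    · refine (sec_iff f f' hN (Ω := Ω) (Ω' := Ω) (t ≫ q) t (eT f q T).hom ?_ ?_ hi hcl).1 hsec
      · rw [show spq Ω Ω = 𝟙 _ from Spec.map_id _]
        haveI : IsIso (𝟙 (Spec (CommRingCat.of Ω))) := IsIso.id _
        exact IsPullback.of_horiz_isIso ⟨(proj_eT q T).trans (Category.comp_id _).symm⟩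
      · show PicF.pullCl _ (PicF.pullCl _ (PicF.cl N)) = PicF.pullCl _ (PicF.pullCl _ (PicF.cl N))
        rw [PicClLib.pullCl_comp, PicClLib.pullCl_comp]
        exact congrArg (fun m => PicF.pullCl m (PicF.cl N)) (pullbackLeftPullbackSndIso_hom_fst f q t).symm
    · show (ψ.app _ L _ hok).left p = pullback.fst J.hom q (((psiK k K r).app T L' hT hL').left p)
      rw [hψ, ← he]
      erw [adj_symm_left]
      rfl
  · rintro ⟨Ω, _, _, t, hT, E, hE, hsec, p, hp⟩
    let T : Over (Spec (CommRingCat.of k)) := Over.mk t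
    let x : T ⟶ J := ψ.app T E hT hE
    obtain ⟨z, hz1, hz2⟩ := Scheme.Pullback.exists_preimage_pullback (f := pullback.fst J.hom q) (g := x.left) y p hp.symm
    let P := pullback (pullback.fst J.hom q) x.left
    let Ω' := AlgebraicClosure (P.residueField z)
    let e : Spec (CommRingCat.of Ω') ⟶ P :=
      Spec.map (CommRingCat.ofHom (algebraMap (P.residueField z) Ω')) ≫ P.fromSpecResidueField z
    let a : Spec (CommRingCat.of Ω') ⟶ Spec (CommRingCat.of Ω) := e ≫ pullback.snd _ _
    let w₀ : Spec (CommRingCat.of Ω') ⟶ (Red.bc q J).left := e ≫ pullback.fst _ _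
    let T' : Over (Spec (CommRingCat.of K)) := Over.mk (w₀ ≫ (Red.bc q J).hom)
    let w : T' ⟶ Red.bc q J := Over.homMk w₀ rfl
    have hax : a ≫ x.left = w₀ ≫ pullback.fst J.hom q := by
      simp only [a, w₀, Category.assoc]
      exact congrArg (e ≫ ·) pullback.condition.symm
    have hat : a ≫ t = T'.hom ≫ q := by
      have h1 : (w₀ ≫ pullback.fst J.hom q) ≫ J.hom = (w₀ ≫ pullback.snd J.hom q) ≫ q :=
        (Category.assoc _ _ _).trans ((congrArg (w₀ ≫ ·) pullback.condition).trans (Category.assoc _ _ _).symm)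
      refine Eq.trans ?_ h1
      rw [← hax]
      exact ((Category.assoc _ _ _).trans (congrArg (a ≫ ·) (Over.w x))).symm
    let g : (Over.map q).obj T' ⟶ T := Over.homMk a hat
    let L : (PicF.XT f ((Over.map q).obj T')).Modules := (ModFun.PicDeg f 0).pull g E
    have hok : (ModFun.PicDeg f 0).ok ((Over.map q).obj T') L :=
      (ok_iff f).2 (Jacobian.isPicZeroCl_pull f g ((ok_iff f).1 hE))
    let L' : (PicF.XT f' T').Modules := (Scheme.Modules.pullback (eT f q T').hom).obj L
    have hcl : PicF.cl L' = PicF.pullCl (eT f q T').hom (PicF.cl L) := rfl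
    obtain ⟨hE', he⟩ := phi0_bc q r hcl hok
    have hval : (psiK k K r).app T' L' trivial hE' = w := by
      refine (adj q).symm.injective (he.trans ?_)
      rw [← hψ _ L trivial hok, ψ.natural g E hT trivial hE]
      refine Over.OverMorphism.ext (hax.trans ?_)
      exact (adj_symm_left q w).symm
    letI : Algebra Ω Ω' := (Spec.preimage a).hom.toAlgebra
    refine ⟨Ω', inferInstance, inferInstance, T'.hom, trivial, L', hE', ?_, IsLocalRing.closedPoint Ω', ?_⟩
    · refine (sec_iff f f' hN (Ω := Ω) (Ω' := Ω') t T'.hom ((eT f q T').hom ≫ PicF.XTmap f g) ?_ ?_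
        (invertible_of_ok hE) ?_).2 hsec
      · rw [show spq Ω Ω' = a from Spec.map_preimage _]
        have h1 : IsPullback (eT f q T').hom (PicF.XTproj f' T') (PicF.XTproj f ((Over.map q).obj T')) (𝟙 _) :=
          IsPullback.of_horiz_isIso ⟨(proj_eT q T').trans (Category.comp_id _).symm⟩
        have h2 := h1.paste_horiz (LineDesc.Rig.isPullback_XTmap (f := f) g)
        rw [Category.id_comp] at h2
        exact h2
      · show PicF.pullCl _ (PicF.pullCl _ (PicF.cl N)) = PicF.pullCl _ (PicF.pullCl _ (PicF.cl N))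
        rw [PicClLib.pullCl_comp, PicClLib.pullCl_comp]
        refine congrArg (fun m => PicF.pullCl m (PicF.cl N)) ?_
        rw [Category.assoc]
        refine ((pullbackLeftPullbackSndIso_hom_fst f q T'.hom).symm).trans ?_
        exact congrArg ((eT f q T').hom ≫ ·) (LineDesc.Rig.XTmap_fst g).symm
      · show PicF.pullCl _ (PicF.pullCl _ (PicF.cl E)) = PicF.pullCl _ (PicF.cl E)
        rw [PicClLib.pullCl_comp]
    · show ((psiK k K r).app T' L' trivial hE').left (IsLocalRing.closedPoint Ω') = y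
      rw [hval]
      show (pullback.fst (pullback.fst J.hom q) x.left).base (P.fromSpecResidueField z _) = y
      rw [Scheme.fromSpecResidueField_apply, hz1]

include hψ hN in
theorem thetaLocus_bc :
    Jac.thetaLocus (CK k K C ↘ Spec (CommRingCat.of K)) 0 (psiK k K r) ((Scheme.Modules.pullback (prC k K)).obj N) =
      (pullback.fst J.hom (spq k K)).base ⁻¹' Jac.thetaLocus (C ↘ Spec (CommRingCat.of k)) 0 ψ N := by
  haveI : UniversallyOpen (spq k K) := FBaseLib.universallyOpen_spec_map_field _
  haveI : UniversallyOpen (pullback.fst J.hom (spq k K)) := inferInstance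
  rw [Jac.thetaLocus, Jac.thetaLocus, jumpLocus_bc k K r hψ hN]
  exact ((pullback.fst J.hom (spq k K)).isOpenMap.preimage_closure_eq_closure_preimage
    (pullback.fst J.hom (spq k K)).continuous _).symm

end Theta

end Groth.Agent.JacBC
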