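import Groth.Agent.JacBC.Field
import Groth.Agent.AlbCurve.ClosedImm
import Groth.Agent.AlbCurve.ThetaLam
import Groth.Agent.AlbCurve.ThetaSeesaw
import Groth.Agent.WeilLib.PointCount
import Groth.Prelude.Def_SGA7a
import Mathlib.FieldTheory.Galois.Infinite

/-!
# Points over an extension, Galois descent of points and factorisations through closed curves
-/

set_option autoImplicit false
set_option maxHeartbeats 1600000
set_option linter.style.haveILetI false
set_option linter.unusedSectionVars false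
set_option backward.isDefEq.respectTransparency false
set_option backward.isDefEq.respectTransparency.types false

universe u

open CategoryTheory CategoryTheory.Limits AlgebraicGeometry TopologicalSpace Opposite MonoidalCategory
  CartesianMonoidalCategory MonObj

noncomputable section

namespace Groth.Agent.JacBC

open Groth.Agent
open scoped Groth.Agent.H23.PicMul

section Pts

variable {k : Type u} (K : Type u) [Field k] [Field K] [Algebra k K]

/-- The point of the bigger field, read in the two ways. -/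
def ptIso : SGA7.pt (K := k) K ≅ (Over.map (spq k K)).obj (𝟙_ (Over (Spec (CommRingCat.of K)))) :=
  Over.isoMk (Iso.refl _) (by
    show 𝟙 _ ≫ (𝟙 _ ≫ spq k K) = spq k K
    rw [Category.id_comp, Category.id_comp])

/-- Rational points of a base change are points over the bigger field. -/
def ptsEq {Y : Over (Spec (CommRingCat.of k))} :
    (𝟙_ (Over (Spec (CommRingCat.of K))) ⟶ Red.bc (spq k K) Y) ≃ (SGA7.pt (K := k) K ⟶ Y) :=
  (adj (spq k K)).symm.trans
    { toFun := fun a => (ptIso K).hom ≫ a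
      invFun := fun b => (ptIso K).inv ≫ b
      left_inv := fun a => Iso.inv_hom_id_assoc _ a
      right_inv := fun b => Iso.hom_inv_id_assoc _ b }

theorem ptsEq_apply {Y : Over (Spec (CommRingCat.of k))} (a : 𝟙_ _ ⟶ Red.bc (spq k K) Y) :
    ptsEq K a = (ptIso K).hom ≫ (adj (spq k K)).symm a := rfl

theorem ptsEq_left {Y : Over (Spec (CommRingCat.of k))} (a : 𝟙_ _ ⟶ Red.bc (spq k K) Y) :
    (ptsEq K a).left = a.left ≫ pullback.fst Y.hom (spq k K) := by
  rw [ptsEq_apply, Over.comp_left, adj_symm_left]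
  exact Category.id_comp _

theorem ptsEq_map {Y Z : Over (Spec (CommRingCat.of k))} (a : 𝟙_ _ ⟶ Red.bc (spq k K) Y) (m : Y ⟶ Z) :
    ptsEq K (a ≫ (Over.pullback (spq k K)).map m) = ptsEq K a ≫ m := by
  rw [ptsEq_apply, ptsEq_apply, adj_symm_comp_map, Category.assoc]

theorem ptsEq_mul {Y : Over (Spec (CommRingCat.of k))} [GrpObj Y] (a b : 𝟙_ _ ⟶ Red.bc (spq k K) Y) :
    ptsEq K (a * b) = ptsEq K a * ptsEq K b := by
  rw [ptsEq_apply, adj_symm_mul, MonObj.comp_mul, ← ptsEq_apply, ← ptsEq_apply]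

theorem ptsEq_zpow {Y : Over (Spec (CommRingCat.of k))} [GrpObj Y] (a : 𝟙_ _ ⟶ Red.bc (spq k K) Y) (s : ℤ) :
    ptsEq K (a ^ s) = ptsEq K a ^ s :=
  map_zpow (MonoidHom.mk' (fun a => ptsEq K (Y := Y) a) (ptsEq_mul K)) a s

theorem ptsEq_bcMor {X : Scheme.{u}} {f : X ⟶ Spec (CommRingCat.of k)} [IsProper f] [SmoothOfRelativeDimension 1 f]
    [GeometricallyConnected f] {Y : Over (Spec (CommRingCat.of k))}
    (x : 𝟙_ (Over (Spec (CommRingCat.of K))) ⟶ Over.mk (PicRep.bcf f (spq k K))) (j : Over.mk f ⟶ Y) :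
    ptsEq K (x ≫ bcMor (spq k K) j) = ptsEq K (Y := Over.mk f) x ≫ j := by
  rw [ptsEq_apply, adj_symm_comp_bcMor, ← Category.assoc, ← ptsEq_apply]

/-- The base change of a rational point. -/
def constPt {Y : Over (Spec (CommRingCat.of k))} (c : 𝟙_ (Over (Spec (CommRingCat.of k))) ⟶ Y) :
    𝟙_ (Over (Spec (CommRingCat.of K))) ⟶ Red.bc (spq k K) Y :=
  (ptsEq K).symm (toUnit _ ≫ c)

theorem ptsEq_constPt {Y : Over (Spec (CommRingCat.of k))} (c : 𝟙_ (Over (Spec (CommRingCat.of k))) ⟶ Y) :
    ptsEq K (constPt K c) = toUnit _ ≫ c := Equiv.apply_symm_apply _ _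

theorem transl_constPt {Y : Over (Spec (CommRingCat.of k))} [GrpObj Y] (c : 𝟙_ (Over (Spec (CommRingCat.of k))) ⟶ Y) :
    (Jac.transl (Red.bc (spq k K) Y) (constPt K c)).left ≫ pullback.fst Y.hom (spq k K) =
      pullback.fst Y.hom (spq k K) ≫ (Jac.transl Y c).left := by
  have h : (adj (spq k K)).symm (Jac.transl (Red.bc (spq k K) Y) (constPt K c)) =
      (adj (spq k K)).symm (𝟙 (Red.bc (spq k K) Y)) ≫ Jac.transl Y c := by
    rw [Jac.transl, adj_symm_mul, adj_symm_comp, Jac.transl, MonObj.comp_mul, Category.comp_id, comp_toUnit_assoc]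
    refine congrArg (_ * ·) ?_
    have h2 := ptsEq_constPt K c
    rw [ptsEq_apply, ← Iso.eq_inv_comp, comp_toUnit_assoc] at h2
    rw [h2, comp_toUnit_assoc]
  have h1 : ((adj (spq k K)).symm (𝟙 (Red.bc (spq k K) Y))).left = pullback.fst Y.hom (spq k K) :=
    (adj_symm_left (spq k K) _).trans (Category.id_comp _)
  refine (adj_symm_left (spq k K) _).symm.trans ((congrArg (fun m => m.left) h).trans ?_)
  exact congrArg (· ≫ (Jac.transl Y c).left) h1

/-- A closed point lifts to a point over an algebraically closed extension. -/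
theorem exists_pts [IsAlgClosed K] (Y : Over (Spec (CommRingCat.of k))) [LocallyOfFiniteType Y.hom] {y : Y.left}
    (hy : IsClosed ({y} : Set Y.left)) :
    ∃ a : SGA7.pt (K := k) K ⟶ Y, a.left.base (IsLocalRing.closedPoint K) = y := by
  let Y' : Over (Spec (CommRingCat.of K)) := Red.bc (spq k K) Y
  let p : Y'.left ⟶ Y.left := pullback.fst Y.hom (spq k K)
  haveI : Surjective p := by
    haveI : Surjective (spq k K) := GrpSchLib.surjective_spec_map_field _
    exact MorphismProperty.pullback_fst _ _ ‹Surjective (spq k K)›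
  haveI : LocallyOfFiniteType Y'.hom := inferInstanceAs (LocallyOfFiniteType (pullback.snd Y.hom (spq k K)))
  haveI : JacobsonSpace Y'.left := LocallyOfFiniteType.jacobsonSpace Y'.hom
  obtain ⟨z, hz⟩ := p.surjective y
  obtain ⟨z', hz'1, hz'2⟩ := nonempty_inter_closedPoints (X := Y'.left) ⟨z, (hz : z ∈ p.base ⁻¹' {y})⟩
    (hy.preimage p.continuous).isLocallyClosed
  let a : 𝟙_ (Over (Spec (CommRingCat.of K))) ⟶ Y' :=
    Over.homMk (pointOfClosedPoint Y'.hom z' hz'2) (pointOfClosedPoint_comp _ _ _)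
  refine ⟨ptsEq K a, ?_⟩
  rw [ptsEq_left]
  show p.base (pointOfClosedPoint Y'.hom z' hz'2 _) = y
  rw [pointOfClosedPoint_apply]
  exact hz'1

/-- A point fixed by all automorphisms is rational. -/
theorem exists_rat_of_fixed [IsGalois k K] {P : Over (Spec (CommRingCat.of k))} (y : SGA7.pt (K := k) K ⟶ P)
    (h : ∀ σ : K ≃ₐ[k] K, SGA7.specAut σ ≫ y = y) :
    ∃ y₀ : 𝟙_ (Over (Spec (CommRingCat.of k))) ⟶ P, toUnit _ ≫ y₀ = y := by
  obtain ⟨x, φ, hy⟩ : ∃ (x : P.left) (φ : P.left.residueField x ⟶ CommRingCat.of K),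
      y.left = Spec.map φ ≫ P.left.fromSpecResidueField x :=
    ⟨_, _, ((Scheme.SpecToEquivOfField K P.left).symm_apply_apply y.left).symm⟩
  have hb : φ.hom.comp (VarDim.resHom P.hom x) = algebraMap k K := by
    have h1 := Over.w y
    rw [hy, Category.assoc, WeilLib.fromSpecResidueField_comp, ← Spec.map_comp] at h1
    exact congrArg CommRingCat.Hom.hom (Spec.map_injective h1)
  have hfix : ∀ (σ : K ≃ₐ[k] K) a, σ (φ.hom a) = φ.hom a := by
    intro σ a
    have h1 : Spec.map (CommRingCat.ofHom (σ : K →+* K)) ≫ y.left = y.left := congrArg (fun m => m.left) (h σ)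
    rw [hy] at h1
    have h2 : Scheme.SpecToEquivOfField K P.left
          (Spec.map (φ ≫ CommRingCat.ofHom (σ : K →+* K)) ≫ P.left.fromSpecResidueField x) =
        Scheme.SpecToEquivOfField K P.left (Spec.map φ ≫ P.left.fromSpecResidueField x) := by
      rw [Spec.map_comp, Category.assoc]
      exact congrArg _ h1
    rw [show Spec.map (φ ≫ CommRingCat.ofHom (σ : K →+* K)) ≫ P.left.fromSpecResidueField x =
        (Scheme.SpecToEquivOfField K P.left).symm ⟨x, φ ≫ CommRingCat.ofHom (σ : K →+* K)⟩ from rfl,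
      show Spec.map φ ≫ P.left.fromSpecResidueField x = (Scheme.SpecToEquivOfField K P.left).symm ⟨x, φ⟩ from rfl,
      Equiv.apply_symm_apply, Equiv.apply_symm_apply] at h2
    exact congrArg (fun m => m.hom a) (eq_of_heq (Sigma.mk.inj h2).2)
  have hr : ∀ a, φ.hom a ∈ (algebraMap k K).range := fun a =>
    (InfiniteGalois.mem_range_algebraMap_iff_fixed (φ.hom a)).2 fun σ => hfix σ a
  let e := RingEquiv.ofBijective (algebraMap k K).rangeRestrict
    ⟨fun a b hab => (algebraMap k K).injective (congrArg Subtype.val hab), (algebraMap k K).rangeRestrict_surjective⟩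
  let φ₀ : P.left.residueField x →+* k := e.symm.toRingHom.comp (φ.hom.codRestrict _ hr)
  have hφ₀ : ∀ a, algebraMap k K (φ₀ a) = φ.hom a := fun a =>
    congrArg Subtype.val (e.apply_symm_apply ⟨φ.hom a, hr a⟩)
  have hw : (Spec.map (CommRingCat.ofHom φ₀) ≫ P.left.fromSpecResidueField x) ≫ P.hom = 𝟙 _ := by
    rw [Category.assoc, WeilLib.fromSpecResidueField_comp, ← Spec.map_comp, ← Spec.map_id]
    congr 1
    ext c
    apply (algebraMap k K).injective
    exact (hφ₀ _).trans (RingHom.congr_fun hb c)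
  refine ⟨Over.homMk (Spec.map (CommRingCat.ofHom φ₀) ≫ P.left.fromSpecResidueField x) hw, ?_⟩
  refine Over.OverMorphism.ext ?_
  show spq k K ≫ Spec.map (CommRingCat.ofHom φ₀) ≫ P.left.fromSpecResidueField x = y.left
  rw [hy, ← Category.assoc, ← Spec.map_comp]
  congr 2
  ext a
  exact hφ₀ a

end Pts

section Curves

variable {k : Type u} [Field k]

/-- A closed curve whose closed points lie on another closed curve is that curve. -/
theorem exists_iso_of_range {C C' Y : Scheme.{u}} [IsIntegral C] [IsIntegral C'] [JacobsonSpace C]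
    (hdim : topologicalKrullDim C = 1) (hdim' : topologicalKrullDim C' = 1)
    (p : C ⟶ Y) [IsClosedImmersion p] (jl : C' ⟶ Y) [IsClosedImmersion jl]
    (h : ∀ x : C, IsClosed ({x} : Set C) → p x ∈ Set.range jl) : ∃ α : C ≅ C', α.hom ≫ jl = p := by
  have hc : IsClosed (p ⁻¹' Set.range jl) := jl.isClosedEmbedding.isClosed_range.preimage p.continuous
  have hsub : Set.range p ⊆ Set.range jl := by
    rintro _ ⟨x, rfl⟩
    refine (?_ : Set.univ ⊆ p ⁻¹' Set.range jl) trivial
    refine (closure_inter_closedPoints isClosed_univ).symm.trans_subset (closure_minimal ?_ hc)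
    rintro y ⟨-, hy⟩
    exact h y hy
  have hker : jl.ker ≤ p.ker := by
    refine le_trans (Scheme.IdealSheafData.le_support_iff_le_vanishingIdeal.1 ?_)
      (Triage.SchDense.vanishingIdeal_le_ker p)
    show closure (Set.range p) ⊆ (jl.ker.support : Set Y)
    rw [Scheme.Hom.support_ker]
    exact closure_mono hsub
  let α0 : C ⟶ C' := IsClosedImmersion.lift jl p hker
  have hα0 : α0 ≫ jl = p := IsClosedImmersion.lift_fac jl p hker
  haveI : IsClosedImmersion α0 := by
    haveI : IsClosedImmersion (α0 ≫ jl) := by rw [hα0]; infer_instance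
    exact IsClosedImmersion.of_comp α0 jl
  haveI := AlbCurve.isIso_of_closedImmersion_dim α0 (g := 1) (by rw [hdim]; rfl) (by rw [hdim']; rfl)
  exact ⟨asIso α0, hα0⟩

/-- Translates of closed immersions by isomorphisms of groups are closed immersions. -/
theorem isClosedImmersion_shift {C : Scheme.{u}} {f : C ⟶ Spec (CommRingCat.of k)}
    {J J' : Over (Spec (CommRingCat.of k))} [GrpObj J] [GrpObj J']
    [IsCommMonObj J']
    (j : Over.mk f ⟶ J) [IsClosedImmersion j.left] (β : J ≅ J') [IsMonHom β.hom] {s : ℤ} (hs : s = 1 ∨ s = -1)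
    (c : 𝟙_ (Over (Spec (CommRingCat.of k))) ⟶ J') :
    IsClosedImmersion ((j ≫ β.hom) ^ s * (toUnit (Over.mk f) ≫ c)).left := by
  haveI : IsIso β.hom.left := inferInstanceAs (IsIso ((Over.forget _).map β.hom))
  obtain ⟨M, hM, h⟩ : ∃ M : J ⟶ J', IsIso M.left ∧ (j ≫ β.hom) ^ s = j ≫ M := by
    rcases hs with rfl | rfl
    · exact ⟨β.hom, inferInstance, zpow_one _⟩
    · refine ⟨β.hom ≫ (𝟙 J')⁻¹, ?_, by rw [zpow_neg, zpow_one, ← Category.assoc, GrpObj.comp_inv, Category.comp_id]⟩
      haveI : IsIso ((𝟙 J')⁻¹ : J' ⟶ J').left := ⟨((𝟙 J')⁻¹ : J' ⟶ J').left,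
        by rw [← Over.comp_left, GrpObj.comp_inv, Category.comp_id, inv_inv]; rfl,
        by rw [← Over.comp_left, GrpObj.comp_inv, Category.comp_id, inv_inv]; rfl⟩
      rw [Over.comp_left]
      infer_instance
  haveI := hM
  haveI : IsIso (Jac.transl J' c).left := AlbCurve.isIso_transl (k := k) c
  rw [h, ← JacVarLib.kp_comp_transl, Category.assoc, Over.comp_left, Over.comp_left]
  infer_instance

end Curves

end Groth.Agent.JacBC
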