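import Groth.Agent.JacBC.Field
import Groth.Agent.AlbCurve.ClosedImm
import Groth.Agent.AlbCurve.ThetaLocus

/-!
# The theta locus as the image of a power of the curve, over any field
-/

set_option autoImplicit false
set_option maxHeartbeats 1600000
set_option linter.style.haveILetI false
set_option linter.unusedSectionVars false
set_option backward.isDefEq.respectTransparency false
set_option backward.isDefEq.respectTransparency.types false

universe u

open CategoryTheory CategoryTheory.Limits AlgebraicGeometry TopologicalSpace Opposite MonoidalCategory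
  CartesianMonoidalCategory MonObj

noncomputable section

namespace Groth.Agent.JacBC

open Groth.Agent Groth.Agent.PicRep Groth.Agent.AlbCurve
open Groth.Agent.JacVarLib (Pc pullPc pullPc_val pullPc_comp ext_val out cl_out isInvertible_out)
open Groth.Agent.GenusOneX (sct sct_proj pt comp_pt)
open scoped Groth.Agent.H23.PicMul

attribute [local instance] Jacobian.curveOver GenusOneX.fibreOver GenusOneX.flat_of_family GenusOneX.lfp_of_family

variable (k : Type u) [Field k] {C : Scheme.{u}} [C.Over (Spec (CommRingCat.of k))]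
  [IsProper (C ↘ Spec (CommRingCat.of k))] [SmoothOfRelativeDimension 1 (C ↘ Spec (CommRingCat.of k))]
  [GeometricallyConnected (C ↘ Spec (CommRingCat.of k))] [IsIntegral C]
  {σ : Spec (CommRingCat.of k) ⟶ C} {hσ : σ ≫ C ↘ Spec (CommRingCat.of k) = 𝟙 _}
  {J : Over (Spec (CommRingCat.of k))} [GrpObj J] [IsCommMonObj J] [IsProper J.hom]
  {ψ : (ModFun.PicDeg (C ↘ Spec (CommRingCat.of k)) 0).Hom ⊤ J}
  {j : Over.mk (C ↘ Spec (CommRingCat.of k)) ⟶ J}
  (hj : Jac.IsAbelJacobiAt (C ↘ Spec (CommRingCat.of k)) σ ψ j)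
  (r : (funct0 (C ↘ Spec (CommRingCat.of k)) σ hσ).RepresentableBy J)
  (hψ : ∀ (T : Over (Spec (CommRingCat.of k))) (E : (PicF.XT (C ↘ Spec (CommRingCat.of k)) T).Modules)
    (hT : (⊤ : ObjectProperty (Over (Spec (CommRingCat.of k)))) T)
    (h : (ModFun.PicDeg (C ↘ Spec (CommRingCat.of k)) 0).ok T E), ψ.app T E hT h = phi0 r T (PicF.cl E))
  (hmul : ∀ (T : Over (Spec (CommRingCat.of k))) (a b : T ⟶ J),
    val0 (r.homEquiv (a * b)) = val0 (r.homEquiv a) * val0 (r.homEquiv b))

omit [IsIntegral C] in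
theorem rho_geometric {Ω : Type u} [Field Ω] (τ : Spec (CommRingCat.of Ω) ⟶ Spec (CommRingCat.of k))
    (v : Pc (PicF.XT (C ↘ Spec (CommRingCat.of k)) (Over.mk τ))) :
    rho (C ↘ Spec (CommRingCat.of k)) σ hσ v = v := by
  rw [rho, show pullPc (PicF.secT (C ↘ Spec (CommRingCat.of k)) σ hσ (Over.mk τ)) v = 1 from
    pc_base_eq_one (Ω := Ω) _, map_one, inv_one, _root_.mul_one]

/-- The projection of a geometric fibre to the curve. -/
abbrev gT {Ω : Type u} [Field Ω] (τ : Spec (CommRingCat.of Ω) ⟶ Spec (CommRingCat.of k)) :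
    PicF.XT (C ↘ Spec (CommRingCat.of k)) (Over.mk τ) ⟶ C :=
  pullback.fst (C ↘ Spec (CommRingCat.of k)) τ

omit [IsIntegral C] in
theorem dg_pullFst {Ω : Type u} [Field Ω] (τ : Spec (CommRingCat.of Ω) ⟶ Spec (CommRingCat.of k)) {N : C.Modules}
    (hN : PicF.IsInvertible N) :
    JacVarLib.dg Ω (pullPc (gT k τ)
      (JacVarLib.mk N hN)) = Curv2.deg k C N 1 := by
  let f := C ↘ Spec (CommRingCat.of k)
  let g : PicF.XT f (Over.mk τ) ⟶ C := pullback.fst f τ
  haveI : QuasiSeparatedSpace C := quasiSeparatedSpace_of_quasiSeparated f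
  haveI := QuasiCompact.compactSpace_of_compactSpace f
  letI : Algebra k Ω := (Spec.preimage τ).hom.toAlgebra
  have hpb : IsPullback g (PicF.XT f (Over.mk τ) ↘ Spec (CommRingCat.of Ω)) f
      (Spec.map (CommRingCat.ofHom (algebraMap k Ω))) := by
    rw [show Spec.map (CommRingCat.ofHom (algebraMap k Ω)) = τ from Spec.map_preimage _]
    exact IsPullback.of_hasPullback f τ
  obtain ⟨e⟩ : Nonempty (out (pullPc g (JacVarLib.mk N hN)) ≅ (Scheme.Modules.pullback g).obj N) :=
    H23.PicMul.cl_eq_iff.1 (by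
      show PicF.cl (out (pullPc g (JacVarLib.mk N hN))) = PicF.pullCl g (PicF.cl N)
      rw [cl_out, pullPc_val, JacVarLib.mk_val])
  unfold JacVarLib.dg
  exact (CurveRR.deg_congr Ω e 1).trans
    (CurveBC.deg_eq k Ω g hpb _ (ProjUPX.isQCoh_of_isInvertible hN) 1)

include hj hψ hmul in
/-- **The theta locus of a class of degree `g - 1` is the image of a power of the curve.** -/
theorem exists_param (hdim : topologicalKrullDim C = 1) {n : ℕ} {N : C.Modules} (hN : PicF.IsInvertible N)
    (hNdeg : Curv2.deg k C N 1 = n) :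
    ∃ (W : Over (Spec (CommRingCat.of k))) (m : W ⟶ J), IsProper W.hom ∧ Smooth W.hom ∧
      Jac.thetaLocus (C ↘ Spec (CommRingCat.of k)) 0 ψ N = Set.range m.left.base := by
  classical
  let f := C ↘ Spec (CommRingCat.of k)
  haveI : Smooth f := SmoothOfRelativeDimension.smooth (n := 1) _
  obtain ⟨W, ρ, pr, hWp, -, -, hWs, hlift, -⟩ :=
    Jacobian.exists_power f (𝟙_ (Over (Spec (CommRingCat.of k)))) n
  haveI := hWp; haveI := hWs
  have hW : ρ.left = W.hom := (Category.comp_id _).symm.trans (Over.w ρ)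
  haveI : IsProper W.hom := hW ▸ hWp
  haveI : SmoothOfRelativeDimension n W.hom := hW ▸ hWs
  haveI : Smooth W.hom := SmoothOfRelativeDimension.smooth n W.hom
  let T₀ : Over (Spec (CommRingCat.of k)) := 𝟙_ _
  set vN : Pc C := JacVarLib.mk N hN with hvN
  let g₀ : PicF.XT f T₀ ⟶ C := pullback.fst f T₀.hom
  let u₀ : Pc (PicF.XT f T₀) := (ptPc (pt f σ hσ T₀) ^ n)⁻¹ * (pullPc g₀ vN)⁻¹
  have hpull : ∀ {Ω : Type u} [Field Ω] (τ : Spec (CommRingCat.of Ω) ⟶ Spec (CommRingCat.of k)),
      pullPc (PicF.XTmap f (toUnit (Over.mk τ))) u₀ =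
        (ptPc (pt f σ hσ (Over.mk τ)) ^ n)⁻¹ * (pullPc (gT k τ (C := C)) vN)⁻¹ := fun {Ω} _ τ => by
    simp only [u₀]
    rw [map_mul, map_inv, map_inv, map_pow, pull_ptPc, comp_pt, pullPc_comp]
    exact congrArg (fun g => (ptPc (pt f σ hσ (Over.mk τ)) ^ n)⁻¹ * (pullPc g vN)⁻¹)
      (LineDesc.Rig.XTmap_fst (toUnit (Over.mk τ)))
  let K := AlgebraicClosure k
  haveI : PreconnectedSpace T₀.left :=
    inferInstanceAs (PreconnectedSpace (PrimeSpectrum k))
  have hu₀ : u₀ ∈ PZ f T₀ := by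
    refine mem_PZ_of_point (toUnit (Over.mk (spq k K))) (IsLocalRing.closedPoint K) ?_
    rw [hpull]
    refine mem_PZ.2 fun t => ?_
    have hd := Jacobian.curve_dim f (spq k K)
    rw [deg_eq_dg f (spq k K) _ t, JacVarLib.dg_mul K hd, JacVarLib.dg_inv K hd, JacVarLib.dg_inv K hd,
      JacVarLib.dg_pow K hd, dg_ptPc, dg_pullFst k (spq k K) hN, hNdeg]
    ring
  obtain ⟨c₀, hc₀⟩ := exists_val0_eq r (v := rho f σ hσ u₀) (rho_mem_RZ hu₀)
  have hjv : ∀ (T : Over (Spec (CommRingCat.of k))) (x : T ⟶ Over.mk f), val0 (r.homEquiv (x ≫ j)) =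
      rho f σ hσ (ptPc (pt f σ hσ T) * (ptPc x)⁻¹) := fun T x => val0_abel r hψ hj x
  let m : W ⟶ J := (∏ i, pr i ≫ j) * (toUnit W ≫ c₀)
  have key : ∀ {Ω : Type u} [Field Ω] (τ : Spec (CommRingCat.of Ω) ⟶ Spec (CommRingCat.of k))
      (y : Over.mk τ ⟶ W), val0 (r.homEquiv (y ≫ m)) =
        divC (fun i => y ≫ pr i) * (pullPc (gT k τ (C := C)) vN)⁻¹ := fun {Ω} _ τ y => by
    have h1 : y ≫ m = (∏ i, (y ≫ pr i) ≫ j) * (toUnit (Over.mk τ) ≫ c₀) := by
      simp only [m]
      rw [MonObj.comp_mul, comp_prod, comp_toUnit_assoc]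
      simp only [Category.assoc]
    rw [h1, hmul]
    have h2 := valHom_prod r hmul hjv (fun i => y ≫ pr i)
    change val0 (r.homEquiv (∏ i, (y ≫ pr i) ≫ j)) = _ at h2
    rw [h2, rho_geometric, r.homEquiv_comp, val0_map, hc₀, pull_rho, rho_geometric, hpull]
    rw [mul_comm (ptPc (pt f σ hσ (Over.mk τ)) ^ n), _root_.mul_assoc, mul_inv_cancel_left]
  refine ⟨W, m, inferInstance, inferInstance, ?_⟩
  have hclosed : IsClosed (Set.range m.left.base) := by
    haveI : IsProper m.left := by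
      haveI : IsProper (m.left ≫ J.hom) := by rw [Over.w m]; infer_instance
      exact IsProper.of_comp m.left J.hom
    exact m.left.isClosedMap.isClosed_range
  suffices hj0 : Jac.jumpLocus f 0 ψ N = Set.range m.left.base by
    rw [Jac.thetaLocus, hj0, hclosed.closure_eq]
  refine Set.Subset.antisymm ?_ ?_
  · rintro _ ⟨Ω, _, _, τ, hT, L, hL, hsec, p, rfl⟩
    have hdimC := Jacobian.curve_dim f τ
    haveI := CurveCohLib.isNoetherian_of_proper (k := Ω) (X := PicF.XT f (Over.mk τ))
    set vL : Pc (PicF.XT f (Over.mk τ)) := toPc (PicF.cl L) ⟨L, rfl, invertible_of_ok hL⟩ with hvL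
    let g : PicF.XT f (Over.mk τ) ⟶ C := gT k τ
    let w : Pc (PicF.XT f (Over.mk τ)) := vL * pullPc g vN
    have hx : val0 (r.homEquiv (ψ.app (Over.mk τ) L hT hL)) = vL := by
      rw [hψ, val0_phi0_cl r hL, rho_geometric]
    obtain ⟨e⟩ : Nonempty (CohB1.tensorMod L ((Scheme.Modules.pullback g).obj N) ≅ out w) := H23.PicMul.cl_eq_iff.1 (by
      rw [H23.PicMul.cl_tensor, cl_out, Subgroup.coe_mul, Units.val_mul, toPc_val, pullPc_val, hvN, JacVarLib.mk_val]
      rfl)
    have hw0 : 0 < JacVarLib.hz Ω w := by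
      haveI := CurveCohLib.finite_HH (k := Ω) (CurveDeg.isCoh_of_isInvertible (isInvertible_out w)) 0
      unfold JacVarLib.hz
      by_contra h0
      have : Subsingleton (Coh.HH (PicF.XT f (Over.mk τ)) (out w) 0) :=
        Module.finrank_zero_iff.1 (Nat.eq_zero_of_not_pos h0)
      exact hsec (QCoh.subsingleton_HH_of_iso e.symm 0 this)
    haveI : GeometricallyConnected (PicF.XT f (Over.mk τ) ↘ Spec (CommRingCat.of Ω)) :=
      inferInstanceAs (GeometricallyConnected (pullback.snd f τ))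
    have hdL : JacVarLib.dg Ω vL = 0 := by
      have h := val0_mem (r.homEquiv (ψ.app (Over.mk τ) L hT hL))
      rw [hx] at h
      exact (deg_eq_dg f τ vL p).symm.trans (mem_PZ.1 h.2 p)
    have hdw : JacVarLib.dg Ω w = n := by
      rw [JacVarLib.dg_mul Ω hdimC, hdL, hvN, show g = gT k τ (C := C) from rfl, dg_pullFst k τ hN, hNdeg, zero_add]
    obtain ⟨z, hz'⟩ := JacVarLib.eff_of_hz_pos Ω hdimC hdw hw0
    choose P hP using fun i => Jacobian.exists_point_of_closed f τ (z i).2
    have hdivC : divC P = w := by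
      have hP' : ∀ i, ptPc (P i) = (JacVarLib.O Ω hdimC (z i))⁻¹ := fun i => by
        refine ext_val ?_
        rw [JacVarLib.O_inv_val, ptPc_val]
        exact hP i
      rw [divC, Finset.prod_congr rfl fun i _ => hP' i, Finset.prod_inv_distrib, inv_inv, hz']
    obtain ⟨y, -, hy⟩ := hlift (Over.mk τ) (toUnit _) P
    refine ⟨y.left p, ?_⟩
    have h : y ≫ m = ψ.app (Over.mk τ) L hT hL := by
      refine r.homEquiv.injective (val0_injective ?_)
      rw [key, hx, show (fun i => y ≫ pr i) = P from funext hy, hdivC, mul_inv_cancel_right]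
    exact congrArg (fun a => a.left.base p) h
  · rintro _ ⟨w₀, rfl⟩
    let Ω := AlgebraicClosure (W.left.residueField w₀)
    let e₀ : Spec (CommRingCat.of Ω) ⟶ W.left :=
      Spec.map (CommRingCat.ofHom (algebraMap (W.left.residueField w₀) Ω)) ≫ W.left.fromSpecResidueField w₀
    let τ := e₀ ≫ W.hom
    let y : Over.mk τ ⟶ W := Over.homMk e₀ rfl
    have hdimC := Jacobian.curve_dim f τ
    haveI := CurveCohLib.isNoetherian_of_proper (k := Ω) (X := PicF.XT f (Over.mk τ))
    let L := out (val0 (r.homEquiv (y ≫ m)))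
    have hok : (ModFun.PicDeg f 0).ok (Over.mk τ) L := (ok_iff f).2 (by
      rw [cl_out]; exact isPicZeroCl_of_mem (val0_mem _).2)
    have hval : ψ.app (Over.mk τ) L trivial hok = y ≫ m := by
      refine r.homEquiv.injective (val0_injective ?_)
      rw [hψ, val0_phi0_cl r hok, rho_geometric]
      exact ext_val ((toPc_val _ _).trans (cl_out _))
    refine ⟨Ω, inferInstance, inferInstance, τ, trivial, L, hok, fun hss => ?_, IsLocalRing.closedPoint Ω, ?_⟩
    · let g : PicF.XT f (Over.mk τ) ⟶ C := pullback.fst f τ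
      let P := fun i => y ≫ pr i
      obtain ⟨e⟩ : Nonempty (CohB1.tensorMod L ((Scheme.Modules.pullback g).obj N) ≅ out (divC P)) :=
        H23.PicMul.cl_eq_iff.1 (by
          rw [H23.PicMul.cl_tensor, cl_out, cl_out, key, Subgroup.coe_mul, Units.val_mul]
          show _ * PicF.pullCl g (PicF.cl N) = _
          rw [← JacVarLib.mk_val N hN, ← pullPc_val, ← hvN, ← Units.val_mul, ← Subgroup.coe_mul]
          exact congrArg (fun z : Pc (PicF.XT f (Over.mk τ)) => z.1.val) (inv_mul_cancel_right (divC P) (pullPc g vN)))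
      have hpos : 0 < JacVarLib.hz Ω (divC P) := JacVarLib.hz_pos_of_eff Ω hdimC
        ⟨fun i => ptOf τ (P i), by
          rw [divC, Finset.prod_congr rfl fun i _ => ptPc_eq_O τ (P i), Finset.prod_inv_distrib, inv_inv]⟩
      haveI : Subsingleton (Coh.HH (PicF.XT f (Over.mk τ)) (out (divC P)) 0) := QCoh.subsingleton_HH_of_iso e 0 hss
      unfold JacVarLib.hz at hpos
      rw [Module.finrank_zero_of_subsingleton] at hpos
      exact lt_irrefl _ hpos
    · show (ψ.app (Over.mk τ) L trivial hok).left.base _ = _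
      rw [hval]
      show m.left.base (W.left.fromSpecResidueField w₀ _) = _
      rw [Scheme.fromSpecResidueField_apply]

end Groth.Agent.JacBC
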